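import Mathlib
import Groth.Agent.H16.ExactDer
import Groth.Agent.H33.BrownGA.GenSingle
import Groth.Agent.H33.SchemeDer.BaseChange
import Groth.Prelude.Def_CxOX

/-!
# Supports of complexes of `O_X`-modules and restriction to opens
-/

set_option autoImplicit false
universe u
open CategoryTheory CategoryTheory.Limits AlgebraicGeometry Scheme.Modules

attribute [local instance] HasDerivedCategory.standard

namespace Groth.Agent.H33.Supp

variable {X : Scheme.{u}}

/-- If `M|_U = 0` then the stalks of `M` at points of `U` vanish. -/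
theorem subsingleton_stalk_of_isZero_restrictOpen (M : X.Modules) (U : X.Opens)
    (h : IsZero ((restrictFunctor U.ι).obj M))
    {y : X} (hy : y ∈ U) : Subsingleton (M.presheaf.stalk y) := by
  refine ⟨fun a b => ?_⟩
  suffices H : ∀ t : M.presheaf.stalk y, t = 0 by rw [H a, H b]
  intro t
  obtain ⟨W, hWU, hyW, s, rfl⟩ := M.presheaf.exists_le_germ_eq t hy
  have hle : U.ι ''ᵁ (U.ι ⁻¹ᵁ W) ≤ W := Set.image_preimage_subset _ _
  have hy' : y ∈ U.ι ''ᵁ (U.ι ⁻¹ᵁ W) := by
    rw [Scheme.Hom.image_preimage_eq_opensRange_inf, Scheme.Opens.opensRange_ι]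
    exact ⟨hy, hyW⟩
  rw [← TopCat.Presheaf.germ_res_apply M.presheaf (homOfLE hle) y hy' s]
  have h0 : M.presheaf.map (homOfLE hle).op s = 0 := by
    have h1 : 𝟙 ((restrictFunctor U.ι).obj M) = 0 := h.eq_of_src _ _
    have h2 : ∀ z : Γ((restrictFunctor U.ι).obj M, U.ι ⁻¹ᵁ W), z = 0 := fun z => by
      have hz : z = (𝟙 ((restrictFunctor U.ι).obj M) : _ ⟶ _).app (U.ι ⁻¹ᵁ W) z := rfl
      rw [hz, h1]
      rfl
    exact h2 (M.presheaf.map (homOfLE hle).op s)
  rw [h0, map_zero]

/-- If the stalks of `M` vanish at the points of the image of an open immersion `g`, then the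
restriction of `M` along `g` is zero. -/
theorem isZero_restrict_of_subsingleton_stalks {W : Scheme.{u}} (g : W ⟶ X) [IsOpenImmersion g]
    (M : X.Modules)
    (h : ∀ w : W, Subsingleton (M.presheaf.stalk (g.base w))) :
    IsZero ((restrictFunctor g).obj M) := by
  rw [IsZero.iff_id_eq_zero]
  refine Scheme.Modules.hom_ext _ _ fun O => ?_
  ext s
  change (show Γ(M, g ''ᵁ O) from s) = 0
  refine TopCat.Presheaf.section_ext ⟨M.presheaf, M.isSheaf⟩ _ _ _ fun y hy => ?_
  obtain ⟨w, -, rfl⟩ := hy
  exact (h w).elim _ _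

/-- If the cohomology sheaves of `E` have vanishing stalks at all points of the image of the
open immersion `g`, then `E` restricts to zero along `g`. -/
theorem isZero_restrictD_of_stalks {W : Scheme.{u}} (g : W ⟶ X) [IsOpenImmersion g]
    (E : DCoh.D X)
    (h : ∀ (i : ℤ) (w : W), Subsingleton ((DCoh.HD E i).presheaf.stalk (g.base w))) :
    IsZero ((DCoh.restrictD g).obj E) := by
  apply Groth.Agent.H33.BrownGA.isZero_of_isZero_homology
  intro i
  refine IsZero.of_iso (isZero_restrict_of_subsingleton_stalks g (DCoh.HD E i) (h i))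
    ((Groth.Agent.H16.ExactDer.homologyNatIso (restrictFunctor g) i).app E)

end Groth.Agent.H33.Supp
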