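import Mathlib
import Groth.Agent.H33.Supp.Basic
import Groth.Agent.H33.DerAdjExact
import Groth.Agent.H33.SchemeDer.RpushRlim
import Groth.Agent.H33.SchemeDer.Restrict
import Groth.Agent.S6510

/-!
# Complexes supported on a closed subset contained in an open
-/

set_option autoImplicit false
universe u
open CategoryTheory CategoryTheory.Limits AlgebraicGeometry Scheme.Modules

attribute [local instance] HasDerivedCategory.standard

namespace Groth.Agent.H33.Supp

variable {X : Scheme.{u}}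

lemma hasRpush {X Y : Scheme.{u}} (f : X ⟶ Y) : DCoh.HasRpush f :=
  Groth.Agent.H5.KInjDeriv.hasRightDerivedFunctor (Groth.Agent.H33.SchemeDer.hKinj X) _

/-- `A ⊞ B ≅ A` when `B` is zero -/
noncomputable def biprodIsoOfIsZero {C : Type*} [Category C] [Preadditive C] [HasBinaryBiproducts C]
    (A B : C) (hB : IsZero B) : A ⊞ B ≅ A where
  hom := biprod.fst
  inv := biprod.inl
  hom_inv_id := by
    apply biprod.hom_ext
    · simp
    · exact hB.eq_of_tgt _ _
  inv_hom_id := by simp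

/-- Part (1): if the cohomology sheaves of `E` have vanishing stalks outside the closed set
`T ⊆ U`, then `E ≅ Rj_*(E|_U)`. -/
theorem nonempty_iso_Rpush_restrictD (U : X.Opens) [DCoh.HasRpush U.ι]
    (T : Set X) (hT : IsClosed T) (hTU : T ⊆ (U : Set X)) (E : DCoh.D X)
    (hE : ∀ (i : ℤ) (x : X), x ∉ T → Subsingleton ((DCoh.HD E i).presheaf.stalk x)) :
    Nonempty (E ≅ (DCoh.Rpush U.ι).obj ((DCoh.restrictD U.ι).obj E)) := by
  let V : X.Opens := ⟨Tᶜ, hT.isOpen_compl⟩
  have hUV : U ⊔ V = ⊤ := by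
    rw [eq_top_iff]
    intro x _
    by_cases hx : x ∈ T
    · exact Or.inl (hTU hx)
    · exact Or.inr hx
  have := hasRpush V.ι
  have := hasRpush (U ⊓ V).ι
  obtain ⟨a, b, c, hdist⟩ := Groth.Agent.S6510.result U V hUV E
  have hZ1 : IsZero ((DCoh.restrictD V.ι).obj E) :=
    isZero_restrictD_of_stalks V.ι E (fun i w => hE i _ w.2)
  have hZ2 : IsZero ((DCoh.restrictD (U ⊓ V).ι).obj E) :=
    isZero_restrictD_of_stalks (U ⊓ V).ι E (fun i w => hE i _ w.2.2)
  have := Groth.Agent.H33.SchemeDer.additive_rpush V.ι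
  have := Groth.Agent.H33.SchemeDer.additive_rpush (U ⊓ V).ι
  have hZ1' : IsZero ((DCoh.Rpush V.ι).obj ((DCoh.restrictD V.ι).obj E)) :=
    Functor.map_isZero _ hZ1
  have hZ2' : IsZero ((DCoh.Rpush (U ⊓ V).ι).obj ((DCoh.restrictD (U ⊓ V).ι).obj E)) :=
    Functor.map_isZero _ hZ2
  have ha : IsIso a :=
    (Pretriangulated.Triangle.isZero₃_iff_isIso₁ _ hdist).1 hZ2'
  exact ⟨asIso a ≪≫ biprodIsoOfIsZero _ _ hZ1'⟩

end Groth.Agent.H33.Supp
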