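import Mathlib
import Groth.Agent.H33.Supp.Main

/-!
# Extension by zero of complexes supported on a closed subset
-/

set_option autoImplicit false
universe u
open CategoryTheory CategoryTheory.Limits AlgebraicGeometry Scheme.Modules

attribute [local instance] HasDerivedCategory.standard

namespace Groth.Agent.H33.Supp

variable {X : Scheme.{u}}

/-- base change for extension by zero: `(j_{U!} M)|_V ≅ j'_!(M|_{U ∩ V})` -/
noncomputable def extZeroRestrictIso (U V : X.Opens) :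
    restrictFunctor (V.ι ∣_ U) ⋙ CxOX.extZero (V.ι ⁻¹ᵁ U).ι ≅
      CxOX.extZero U.ι ⋙ restrictFunctor V.ι :=
  (conjugateIsoEquiv ((CxOX.extZeroAdj U.ι).comp (restrictAdjunction V.ι))
    ((restrictAdjunction (V.ι ∣_ U)).comp (CxOX.extZeroAdj (V.ι ⁻¹ᵁ U).ι))).symm
    (Groth.Agent.H33.SchemeDer.baseChangeIso V.ι U)

lemma isZero_restrict_extZero (U V : X.Opens) (M : (U : Scheme.{u}).Modules)
    (hM : ∀ y : (U : Scheme.{u}), U.ι.base y ∈ V → Subsingleton (M.presheaf.stalk y)) :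
    IsZero ((restrictFunctor V.ι).obj ((CxOX.extZero U.ι).obj M)) := by
  refine IsZero.of_iso ?_ ((extZeroRestrictIso U V).app M).symm
  refine Functor.map_isZero (CxOX.extZero (V.ι ⁻¹ᵁ U).ι) ?_
  refine isZero_restrict_of_subsingleton_stalks (V.ι ∣_ U) M (fun w => hM _ ?_)
  have h := congrArg (fun φ => φ.base w) (morphismRestrict_ι V.ι U)
  simp only [Scheme.Hom.comp_base, TopCat.comp_app] at h
  rw [h]
  exact ((V.ι ⁻¹ᵁ U).ι.base w).2

/-- the adjoint triple `j_! ⊣ j^* ⊣ Rj_*` on derived categories -/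
noncomputable def derivedTriple (U : X.Opens) [DCoh.HasRpush U.ι]
    [PreservesFiniteLimits (CxOX.extZero U.ι)] :
    Adjunction.Triple (CxOX.extZeroD U.ι) (DCoh.restrictD U.ι) (DCoh.Rpush U.ι) where
  adj₁ := Groth.Agent.H33.DerAdjExact.derivedAdj (CxOX.extZeroAdj U.ι)
  adj₂ := Groth.Agent.H33.DerAdjU.derivedAdj (restrictAdjunction U.ι)
    (Groth.Agent.H33.SchemeDer.hKinj (U : Scheme.{u}))

instance isIso_derivedTriple_unit (U : X.Opens) [DCoh.HasRpush U.ι]
    [PreservesFiniteLimits (CxOX.extZero U.ι)] : IsIso (derivedTriple U).adj₁.unit :=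
  (derivedTriple U).isIso_unit_iff_isIso_counit.2
    (Groth.Agent.H33.DerAdjU.isIso_derivedAdj_counit (restrictAdjunction U.ι)
      (Groth.Agent.H33.SchemeDer.hKinj (U : Scheme.{u})))

/-- `F ≅ (j_! F)|_U` in the derived category -/
noncomputable def restrictDExtZeroDIso (U : X.Opens) [DCoh.HasRpush U.ι]
    [PreservesFiniteLimits (CxOX.extZero U.ι)] (F : DCoh.D (U : Scheme.{u})) :
    F ≅ (DCoh.restrictD U.ι).obj ((CxOX.extZeroD U.ι).obj F) :=
  asIso ((derivedTriple U).adj₁.unit.app F)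

/-- Part (2): if the cohomology sheaves of `F ∈ D(O_U)` have vanishing stalks outside the
closed set `T ⊆ U` of `X`, then `j_! F ≅ Rj_* F`. -/
theorem nonempty_extZeroD_iso_Rpush (U : X.Opens) [DCoh.HasRpush U.ι]
    [PreservesFiniteLimits (CxOX.extZero U.ι)]
    (T : Set X) (hT : IsClosed T) (hTU : T ⊆ (U : Set X)) (F : DCoh.D (U : Scheme.{u}))
    (hF : ∀ (i : ℤ) (y : (U : Scheme.{u})), U.ι.base y ∉ T →
      Subsingleton ((DCoh.HD F i).presheaf.stalk y)) :
    Nonempty ((CxOX.extZeroD U.ι).obj F ≅ (DCoh.Rpush U.ι).obj F) := by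
  let V : X.Opens := ⟨Tᶜ, hT.isOpen_compl⟩
  obtain ⟨e⟩ := nonempty_iso_Rpush_restrictD U T hT hTU ((CxOX.extZeroD U.ι).obj F) (by
    intro i x hx
    refine subsingleton_stalk_of_isZero_restrictOpen _ V ?_ (show x ∈ V from hx)
    refine IsZero.of_iso (isZero_restrict_extZero U V (DCoh.HD F i) (fun y hy => hF i y hy))
      ((restrictFunctor V.ι).mapIso
        ((Groth.Agent.H16.ExactDer.homologyNatIso (CxOX.extZero U.ι) i).app F)))
  exact ⟨e ≪≫ (DCoh.Rpush U.ι).mapIso (restrictDExtZeroDIso U F).symm⟩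

end Groth.Agent.H33.Supp
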